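import Groth.Agent.Lib.Helper7.UnivThick.GlueLift
import Groth.Agent.Lib.Helper51.ThickeningSpec
import Groth.Prelude.Def_Omega3

/-!
# The affine local model of the universal first order thickening

`RingUniv φ φ' π` is the `CommRingCat` form of the ring-level universal property of a universal
first order thickening `π : B' → B` of `φ : R → B`.  We show that `Spec` of such a thickening
(with `R = Γ(X, U)` for an affine open `U` of `X`) is a universal first order thickening of
`Spec B → U → X` in the sense of `OmegaSh.IsUnivThickening`.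
-/

set_option autoImplicit false

namespace Groth.Agent.Lib.Helper7.UnivThick

open AlgebraicGeometry CategoryTheory Limits TopologicalSpace
open Groth.Agent.Lib.Helper7

universe u

/-- `CommRingCat` form of the ring-level universal property. -/
def RingUniv {R B B' : CommRingCat.{u}} (φ : R ⟶ B) (φ' : R ⟶ B') (π : B' ⟶ B) : Prop :=
  ∀ (A C : CommRingCat.{u}) (θ : A ⟶ C), Function.Surjective θ.hom → RingHom.ker θ.hom ^ 2 = ⊥ →
    ∀ (α : B ⟶ C) (β : R ⟶ A), β ≫ θ = φ ≫ α → ∃! l : B' ⟶ A, l ≫ θ = π ≫ α ∧ φ' ≫ l = β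

/-- Translation of `OmegaSh.IsUnivThickeningRing` into `RingUniv`. -/
theorem ringUniv_of_isUnivThickeningRing (R S S' : Type u) [CommRing R] [CommRing S] [CommRing S']
    [Algebra R S] [Algebra R S'] (π : S' →ₐ[R] S) (h : OmegaSh.IsUnivThickeningRing R S S' π) :
    RingUniv (CommRingCat.ofHom (algebraMap R S)) (CommRingCat.ofHom (algebraMap R S'))
      (CommRingCat.ofHom π.toRingHom) := by
  intro A C θ hθ hθk α β comm
  obtain ⟨-, -, hu⟩ := h
  letI : Algebra R A := β.hom.toAlgebra
  set I : Ideal A := RingHom.ker θ.hom with hI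
  let e : A ⧸ I ≃+* C := RingHom.quotientKerEquivOfSurjective hθ
  have he : ∀ x : A, e (Ideal.Quotient.mk I x) = θ.hom x := fun x => rfl
  have comm' : ∀ r : R, θ.hom (β.hom r) = α.hom (algebraMap R S r) := fun r =>
    congr($(comm).hom r)
  let a : S →ₐ[R] A ⧸ I :=
    { toRingHom := (e.symm : C →+* A ⧸ I).comp α.hom
      commutes' := fun r => by
        show e.symm (α.hom (algebraMap R S r)) = _
        rw [← comm', ← he, RingEquiv.symm_apply_apply]
        rfl }
  have ha : ∀ s : S, e (a s) = α.hom s := fun s => by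
    show e (e.symm (α.hom s)) = _
    rw [RingEquiv.apply_symm_apply]
  obtain ⟨a', ha', hu'⟩ := hu A I hθk a
  have ha'' : ∀ x : S', θ.hom (a' x) = α.hom (π x) := fun x => by
    have := congr($ha' x)
    simp only [AlgHom.comp_apply, Ideal.Quotient.mkₐ_eq_mk] at this
    rw [← he, this, ha]
  refine ⟨CommRingCat.ofHom a'.toRingHom, ⟨?_, ?_⟩, ?_⟩
  · ext x
    exact ha'' x
  · ext r
    exact a'.commutes r
  · rintro l ⟨hl1, hl2⟩
    let l' : S' →ₐ[R] A :=
      { toRingHom := l.hom
        commutes' := fun r => congr($(hl2).hom r) }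
    have : l' = a' := by
      apply hu'
      ext x
      simp only [AlgHom.comp_apply, Ideal.Quotient.mkₐ_eq_mk]
      apply e.injective
      rw [he, ha]
      exact congr($(hl1).hom x)
    ext x
    exact congr($this x)

/-- The affine local model. -/
theorem isUnivThickening_Spec {X : Scheme.{u}} {U : X.Opens} (hU : IsAffineOpen U)
    {B B' : CommRingCat.{u}} (φ : Γ(X, U) ⟶ B) (φ' : Γ(X, U) ⟶ B') (π : B' ⟶ B)
    (hπ : φ' ≫ π = φ) (hsurj : Function.Surjective π.hom) (hker : RingHom.ker π.hom ^ 2 = ⊥)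
    (huniv : RingUniv φ φ' π) :
    OmegaSh.IsUnivThickening (Spec.map φ ≫ hU.fromSpec) (Spec.map π)
      (Spec.map φ' ≫ hU.fromSpec) := by
  refine ⟨Groth.Agent.Lib.Helper51.isFirstOrderThickening_SpecMap π hsurj hker, ?_, ?_⟩
  · rw [← Spec.map_comp_assoc, hπ]
  · intro T T' j b a hj w
    have hjc : IsClosedImmersion j := hj.1.1
    have hjs : Surjective j := hj.1.2
    have hsq : j.ker * j.ker = ⊥ := hj.2
    have hbU : ∀ x : T', b x ∈ U := by
      intro x
      obtain ⟨y, rfl⟩ := j.surjective x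
      rw [← Scheme.Hom.comp_apply, w, Scheme.Hom.comp_apply, Scheme.Hom.comp_apply]
      have : hU.fromSpec (Spec.map φ (a y)) ∈ Set.range hU.fromSpec := ⟨_, rfl⟩
      rwa [hU.range_fromSpec] at this
    refine existsUnique_lift_of_basis (Spec.map φ' ≫ hU.fromSpec) j (a ≫ Spec.map π) b
      T'.affineOpens (fun W hW => hW) T'.isBasis_affineOpens ?_
    intro W hW
    have hθsurj : Function.Surjective (j.app W).hom := Scheme.Hom.app_surjective j W hW
    have hθker := ker_app_sq_eq_bot j hsq hW
    have hSsurj : Function.Surjective (Spec.map (j.app W)) :=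
      SpecMap_surjective_of_ker_le_nilradical _ hθsurj (ker_le_nilradical_of_sq_eq_bot _ hθker)
    have Et := SpecMap_app_fromSpec j hW
    obtain ⟨β, hβ⟩ := exists_SpecMap_comp_fromSpec hU (hW.fromSpec ≫ b) (by
      rintro _ ⟨p, rfl⟩
      rw [Scheme.Hom.comp_apply]
      exact hbU _)
    set α : B ⟶ Γ(T, j ⁻¹ᵁ W) := Spec.preimage ((hW.preimage j).fromSpec ≫ a) with hα
    have hα' : Spec.map α = (hW.preimage j).fromSpec ≫ a := Spec.map_preimage _
    have comm : β ≫ j.app W = φ ≫ α := by
      apply Spec.map_injective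
      rw [← cancel_mono hU.fromSpec, Spec.map_comp, Spec.map_comp, Category.assoc, ← hβ,
        ← Category.assoc, Et, Category.assoc, w, Category.assoc, hα', Category.assoc]
    obtain ⟨l₀, ⟨hl1, hl2⟩, hl₀u⟩ := huniv _ _ (j.app W) hθsurj hθker α β comm
    refine ⟨Spec.map l₀, ⟨?_, ?_⟩, ?_⟩
    · rw [← Spec.map_comp, hl1, Spec.map_comp, hα', Category.assoc]
    · rw [← Spec.map_comp_assoc, hl2, hβ]
    · rintro l ⟨h1, h2⟩
      obtain ⟨l', rfl⟩ : ∃ l', l = Spec.map l' := ⟨Spec.preimage l, (Spec.map_preimage l).symm⟩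
      rw [hl₀u l' ⟨?_, ?_⟩]
      · apply Spec.map_injective
        rw [Spec.map_comp, h1, Spec.map_comp, hα', Category.assoc]
      · apply Spec.map_injective
        rw [← cancel_mono hU.fromSpec, Spec.map_comp, Category.assoc, h2, hβ]

end Groth.Agent.Lib.Helper7.UnivThick
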