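import Groth.Agent.Lib.Helper51.Thickening
import Groth.Prelude.Def_Omega3

/-!
# Basic properties of universal first order thickenings

* `isUnivThickening_of_isPullback`: restriction along open immersions.
* `isIso_of_isUnivThickening`: comparison maps between universal thickenings are isomorphisms.
* `isOpenImmersion_of_isUnivThickening`: the comparison map from the universal thickening of an
  open subscheme is an open immersion.
-/

set_option autoImplicit false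

namespace Groth.Agent.Lib.Helper7.UnivThick

open AlgebraicGeometry CategoryTheory Limits TopologicalSpace

universe u

/-- Restriction of a universal thickening along open immersions. -/
theorem isUnivThickening_of_isPullback {Z Z' X V V' : Scheme.{u}} (h : Z ⟶ X) (i : Z ⟶ Z')
    (h' : Z' ⟶ X) (hu : OmegaSh.IsUnivThickening h i h') (ι : V ⟶ Z) (ι' : V' ⟶ Z')
    [IsOpenImmersion ι'] (iV : V ⟶ V') (sq : IsPullback iV ι ι' i) :
    OmegaSh.IsUnivThickening (ι ≫ h) iV (ι' ≫ h') := by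
  obtain ⟨h1, h2, h3⟩ := hu
  refine ⟨Groth.Agent.Lib.Helper51.isFirstOrderThickening_of_isPullback sq h1, ?_, ?_⟩
  · rw [← Category.assoc, sq.w, Category.assoc, h2]
  · intro T T' j b a hj w
    have hjs : Surjective j := hj.1.2
    obtain ⟨c, ⟨hc1, hc2⟩, hcu⟩ := h3 T T' j b (a ≫ ι) hj (by rw [w, Category.assoc])
    have hrange : Set.range c ⊆ Set.range ι' := by
      rintro _ ⟨t', rfl⟩
      obtain ⟨t, rfl⟩ := j.surjective t'
      refine ⟨iV (a t), ?_⟩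
      rw [← Scheme.Hom.comp_apply, ← Scheme.Hom.comp_apply, ← Scheme.Hom.comp_apply, hc1,
        Category.assoc, ← sq.w]
    refine ⟨IsOpenImmersion.lift ι' c hrange, ⟨?_, ?_⟩, ?_⟩
    · rw [← cancel_mono ι', Category.assoc, IsOpenImmersion.lift_fac, hc1, Category.assoc,
        Category.assoc, sq.w]
    · rw [IsOpenImmersion.lift_fac_assoc, hc2]
    · rintro a'' ⟨ha1, ha2⟩
      rw [← cancel_mono ι', IsOpenImmersion.lift_fac]
      apply hcu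
      refine ⟨?_, ?_⟩
      · rw [← Category.assoc, ha1, Category.assoc, Category.assoc, sq.w]
      · rw [Category.assoc, ha2]

/-- A comparison map between universal thickenings (over an isomorphism of the thickened schemes)
is an isomorphism. -/
theorem isIso_of_isUnivThickening {Z₁ Z₂ Z₁' Z₂' X : Scheme.{u}} (h₁ : Z₁ ⟶ X) (h₂ : Z₂ ⟶ X)
    (i₁ : Z₁ ⟶ Z₁') (h₁' : Z₁' ⟶ X) (i₂ : Z₂ ⟶ Z₂') (h₂' : Z₂' ⟶ X)
    (hu₁ : OmegaSh.IsUnivThickening h₁ i₁ h₁') (hu₂ : OmegaSh.IsUnivThickening h₂ i₂ h₂')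
    (ε : Z₁ ≅ Z₂) (hε : ε.hom ≫ h₂ = h₁) (e : Z₁' ⟶ Z₂') (he1 : i₁ ≫ e = ε.hom ≫ i₂)
    (he2 : e ≫ h₂' = h₁') : IsIso e := by
  have hε' : ε.inv ≫ h₁ = h₂ := by rw [← hε, Iso.inv_hom_id_assoc]
  obtain ⟨e', ⟨he'1, he'2⟩, -⟩ := hu₁.2.2 Z₂ Z₂' i₂ h₂' ε.inv hu₂.1 (by rw [hu₂.2.1, hε'])
  refine ⟨e', ?_, ?_⟩
  · obtain ⟨c, -, hcu⟩ := hu₁.2.2 Z₁ Z₁' i₁ h₁' (𝟙 _) hu₁.1 (by rw [hu₁.2.1, Category.id_comp])
    rw [hcu (e ≫ e') ⟨?_, ?_⟩, hcu (𝟙 _) ⟨?_, ?_⟩]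
    · rw [Category.comp_id, Category.id_comp]
    · rw [Category.id_comp]
    · rw [← Category.assoc, he1, Category.assoc, he'1, Iso.hom_inv_id_assoc, Category.id_comp]
    · rw [Category.assoc, he'2, he2]
  · obtain ⟨c, -, hcu⟩ := hu₂.2.2 Z₂ Z₂' i₂ h₂' (𝟙 _) hu₂.1 (by rw [hu₂.2.1, Category.id_comp])
    rw [hcu (e' ≫ e) ⟨?_, ?_⟩, hcu (𝟙 _) ⟨?_, ?_⟩]
    · rw [Category.comp_id, Category.id_comp]
    · rw [Category.id_comp]
    · rw [← Category.assoc, he'1, Category.assoc, he1, Iso.inv_hom_id_assoc, Category.id_comp]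
    · rw [Category.assoc, he2, he'2]

/-- The comparison map from the universal thickening of an open subscheme is an open immersion. -/
theorem isOpenImmersion_of_isUnivThickening {Z₁ Z₂ Z₁' Z₂' X : Scheme.{u}} (h₂ : Z₂ ⟶ X)
    (ι : Z₁ ⟶ Z₂) [IsOpenImmersion ι]
    (i₁ : Z₁ ⟶ Z₁') (h₁' : Z₁' ⟶ X) (i₂ : Z₂ ⟶ Z₂') (h₂' : Z₂' ⟶ X)
    (hu₁ : OmegaSh.IsUnivThickening (ι ≫ h₂) i₁ h₁') (hu₂ : OmegaSh.IsUnivThickening h₂ i₂ h₂')
    (ρ : Z₁' ⟶ Z₂') (hρ1 : i₁ ≫ ρ = ι ≫ i₂) (hρ2 : ρ ≫ h₂' = h₁') : IsOpenImmersion ρ := by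
  have hc₂ : IsClosedImmersion i₂ := hu₂.1.1.1
  have hs₂ : Surjective i₂ := hu₂.1.1.2
  have hs₁ : Surjective i₁ := hu₁.1.1.2
  have hhomeo : IsHomeomorph i₂ :=
    isHomeomorph_iff_isEmbedding_surjective.mpr ⟨i₂.isClosedEmbedding.isEmbedding, i₂.surjective⟩
  let O : Z₂'.Opens := ⟨i₂ '' (Set.range ι), hhomeo.isOpenMap _ ι.isOpenEmbedding.isOpen_range⟩
  have hO : ∀ z, i₂ (ι z) ∈ O := fun z => ⟨ι z, ⟨z, rfl⟩, rfl⟩
  have hr1 : Set.range (ι ≫ i₂) ⊆ Set.range O.ι := by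
    rintro _ ⟨z, rfl⟩
    rw [Scheme.Opens.range_ι, Scheme.Hom.comp_apply]
    exact hO z
  let iV : Z₁ ⟶ O := IsOpenImmersion.lift O.ι (ι ≫ i₂) hr1
  have hiV : iV ≫ O.ι = ι ≫ i₂ := IsOpenImmersion.lift_fac _ _ _
  have sq : IsPullback iV ι O.ι i₂ := by
    apply IsOpenImmersion.isPullback
    · exact hiV.symm
    · ext z
      simp only [Scheme.Opens.opensRange_ι]
      constructor
      · rintro ⟨w, ⟨z', rfl⟩, hw⟩
        exact ⟨z', hhomeo.injective hw⟩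
      · rintro ⟨z', rfl⟩
        exact hO z'
  have hu₃ := isUnivThickening_of_isPullback h₂ i₂ h₂' hu₂ ι O.ι iV sq
  have hr2 : Set.range ρ ⊆ Set.range O.ι := by
    rintro _ ⟨y, rfl⟩
    obtain ⟨z, rfl⟩ := i₁.surjective y
    rw [Scheme.Opens.range_ι, ← Scheme.Hom.comp_apply, hρ1, Scheme.Hom.comp_apply]
    exact hO z
  let ρ' : Z₁' ⟶ O := IsOpenImmersion.lift O.ι ρ hr2
  have hρ' : ρ' ≫ O.ι = ρ := IsOpenImmersion.lift_fac _ _ _
  have : IsIso ρ' := by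
    refine isIso_of_isUnivThickening (ι ≫ h₂) (ι ≫ h₂) i₁ h₁' iV (O.ι ≫ h₂') hu₁ hu₃ (Iso.refl _)
      (by simp) ρ' ?_ ?_
    · rw [← cancel_mono O.ι, Category.assoc, hρ', hρ1, Iso.refl_hom, Category.id_comp, hiV]
    · rw [← Category.assoc, hρ', hρ2]
  rw [← hρ']
  infer_instance

end Groth.Agent.Lib.Helper7.UnivThick
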