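import Groth.Agent.Lib.Helper51.ThickeningSpec
import Groth.Prelude.Def_MoreMor

/-!
# First order thickenings are local on the target
-/

set_option autoImplicit false

namespace Groth.Agent.Lib.Helper7.UnivThick

open AlgebraicGeometry CategoryTheory Limits TopologicalSpace

universe u

theorem ker_mul_ker_eq_bot_of_openCover {Z Z' : Scheme.{u}} (i : Z ⟶ Z') [QuasiCompact i]
    (𝒰 : Z'.OpenCover) (V : 𝒰.I₀ → Scheme.{u}) (iV : ∀ k, V k ⟶ 𝒰.X k) (ιV : ∀ k, V k ⟶ Z)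
    (sq : ∀ k, IsPullback (iV k) (ιV k) (𝒰.f k) i)
    (H : ∀ k, (iV k).ker * (iV k).ker = ⊥) : i.ker * i.ker = ⊥ := by
  refine le_bot_iff.mp ?_
  let ι := Σ k : 𝒰.I₀, (𝒰.X k).affineOpens
  let U : ι → Z'.affineOpens := fun p =>
    ⟨(𝒰.f p.1) ''ᵁ p.2.1, p.2.2.image_of_isOpenImmersion _⟩
  refine Scheme.IdealSheafData.le_of_iSup_eq_top U ?_ ?_
  · rw [eq_top_iff]
    rintro x -
    obtain ⟨y, hy⟩ := 𝒰.covers x
    obtain ⟨W, hW, hyW, -⟩ := Opens.isBasis_iff_nbhd.mp (𝒰.X (𝒰.idx x)).isBasis_affineOpens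
      (Opens.mem_top y)
    rw [Opens.mem_iSup]
    exact ⟨⟨𝒰.idx x, ⟨W, hW⟩⟩, ⟨y, hyW, hy⟩⟩
  · rintro ⟨k, W⟩
    have h1 := Scheme.ker_ideal_of_isPullback_of_isOpenImmersion i (iV k) (ιV k) (𝒰.f k) (sq k) W
    have h2 := congr($(H k).ideal W)
    rw [Scheme.IdealSheafData.ideal_mul, Pi.mul_apply, Scheme.IdealSheafData.ideal_bot,
      Pi.bot_apply] at h2
    rw [Scheme.IdealSheafData.ideal_mul, Pi.mul_apply, Scheme.IdealSheafData.ideal_bot,
      Pi.bot_apply, Ideal.mul_le]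
    intro x hx y hy
    set e := ((𝒰.f k).appIso W.1).inv with he
    have hbij : Function.Bijective e.hom := ConcreteCategory.bijective_of_isIso e
    obtain ⟨x', rfl⟩ := hbij.2 x
    obtain ⟨y', rfl⟩ := hbij.2 y
    have hx' : x' ∈ (iV k).ker.ideal W := by rw [h1]; exact hx
    have hy' : y' ∈ (iV k).ker.ideal W := by rw [h1]; exact hy
    have : x' * y' ∈ (⊥ : Ideal _) := h2 ▸ Ideal.mul_mem_mul hx' hy'
    rw [Ideal.mem_bot] at this ⊢
    rw [← map_mul, this, map_zero]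

theorem isFirstOrderThickening_of_openCover {Z Z' : Scheme.{u}} (i : Z ⟶ Z')
    (𝒰 : Z'.OpenCover) (V : 𝒰.I₀ → Scheme.{u}) (iV : ∀ k, V k ⟶ 𝒰.X k) (ιV : ∀ k, V k ⟶ Z)
    (sq : ∀ k, IsPullback (iV k) (ιV k) (𝒰.f k) i)
    (H : ∀ k, MoreMor.IsFirstOrderThickening (iV k)) : MoreMor.IsFirstOrderThickening i := by
  have hc : IsClosedImmersion i := by
    apply IsZariskiLocalAtTarget.of_openCover (P := @IsClosedImmersion) 𝒰
    intro k
    have e := (sq k).flip.isoPullback_hom_snd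
    have : IsClosedImmersion (iV k) := (H k).1.1
    show IsClosedImmersion (pullback.snd i (𝒰.f k))
    rw [← MorphismProperty.cancel_left_of_respectsIso @IsClosedImmersion
      (sq k).flip.isoPullback.hom, e]
    infer_instance
  have hk : i.ker * i.ker = ⊥ :=
    ker_mul_ker_eq_bot_of_openCover i 𝒰 V iV ιV sq fun k => (H k).2
  exact ⟨⟨hc, Groth.Agent.Lib.Helper51.surjective_of_ker_mul_ker_eq_bot i hk⟩, hk⟩

end Groth.Agent.Lib.Helper7.UnivThick
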