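import Groth.Agent.Lib.Helper7.UnivThick.GlueLift
import Groth.Agent.Lib.Helper7.UnivThick.Basic
import Groth.Agent.Lib.Helper7.UnivThick.LocalTarget
import Mathlib.AlgebraicGeometry.Gluing

/-!
# Gluing local universal first order thickenings

Given a locally directed open cover `𝒰` of `Z` and universal first order thickenings of
`𝒰.X k ⟶ Z ⟶ X` for every `k`, we glue them (along the canonical comparison maps, which are open
immersions) to a universal first order thickening of `Z ⟶ X`.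
-/

set_option autoImplicit false

namespace Groth.Agent.Lib.Helper7.UnivThick

open AlgebraicGeometry CategoryTheory Limits TopologicalSpace
open Groth.Agent.Lib.Helper7

universe w u

variable {Z X : Scheme.{u}} (h : Z ⟶ X) (𝒰 : Scheme.OpenCover.{u} Z) [Category.{w} 𝒰.I₀]
  [𝒰.LocallyDirected]

/-- Local universal thickenings on the members of a cover. -/
structure LocalData where
  Y : 𝒰.I₀ → Scheme.{u}
  i : ∀ k, 𝒰.X k ⟶ Y k
  h' : ∀ k, Y k ⟶ X
  univ : ∀ k, OmegaSh.IsUnivThickening (𝒰.f k ≫ h) (i k) (h' k)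

namespace LocalData

variable {h 𝒰} (D : LocalData h 𝒰)

lemma existsUnique_trans {k l : 𝒰.I₀} (f : k ⟶ l) :
    ∃! ρ : D.Y k ⟶ D.Y l, D.i k ≫ ρ = 𝒰.trans f ≫ D.i l ∧ ρ ≫ D.h' l = D.h' k :=
  (D.univ l).2.2 _ _ (D.i k) (D.h' k) (𝒰.trans f) (D.univ k).1
    (by rw [(D.univ k).2.1, ← Category.assoc, 𝒰.trans_map])

/-- The transition maps between the local thickenings. -/
noncomputable def ρ {k l : 𝒰.I₀} (f : k ⟶ l) : D.Y k ⟶ D.Y l := (D.existsUnique_trans f).choose

lemma i_ρ {k l : 𝒰.I₀} (f : k ⟶ l) : D.i k ≫ D.ρ f = 𝒰.trans f ≫ D.i l :=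
  (D.existsUnique_trans f).choose_spec.1.1

lemma ρ_h' {k l : 𝒰.I₀} (f : k ⟶ l) : D.ρ f ≫ D.h' l = D.h' k :=
  (D.existsUnique_trans f).choose_spec.1.2

lemma ρ_unique {k l : 𝒰.I₀} (f : k ⟶ l) (ρ' : D.Y k ⟶ D.Y l)
    (h1 : D.i k ≫ ρ' = 𝒰.trans f ≫ D.i l) (h2 : ρ' ≫ D.h' l = D.h' k) : ρ' = D.ρ f :=
  (D.existsUnique_trans f).choose_spec.2 ρ' ⟨h1, h2⟩

/-- The diagram of local thickenings. -/
noncomputable def functor : 𝒰.I₀ ⥤ Scheme.{u} where
  obj := D.Y
  map f := D.ρ f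
  map_id k := (D.ρ_unique (𝟙 k) (𝟙 _) (by simp) (by simp)).symm
  map_comp f g := (D.ρ_unique (f ≫ g) (D.ρ f ≫ D.ρ g)
    (by rw [← Category.assoc, i_ρ, Category.assoc, i_ρ, ← Category.assoc, ← 𝒰.trans_comp])
    (by rw [Category.assoc, ρ_h', ρ_h'])).symm

instance {k l : 𝒰.I₀} (f : k ⟶ l) : IsOpenImmersion (D.functor.map f) :=
  isOpenImmersion_of_isUnivThickening (𝒰.f l ≫ h) (𝒰.trans f) (D.i k) (D.h' k) (D.i l) (D.h' l)
    (by rw [← Category.assoc, 𝒰.trans_map]; exact D.univ k) (D.univ l) (D.ρ f) (D.i_ρ f)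
    (D.ρ_h' f)

lemma i_surjective (k : 𝒰.I₀) : Function.Surjective (D.i k) :=
  have : Surjective (D.i k) := (D.univ k).1.1.2
  (D.i k).surjective

lemma i_injective (k : 𝒰.I₀) : Function.Injective (D.i k) :=
  have : IsClosedImmersion (D.i k) := (D.univ k).1.1.1
  (D.i k).isClosedEmbedding.injective

lemma ρ_i_apply {k l : 𝒰.I₀} (f : k ⟶ l) (z : 𝒰.X k) : D.ρ f (D.i k z) = D.i l (𝒰.trans f z) := by
  rw [← Scheme.Hom.comp_apply, i_ρ, Scheme.Hom.comp_apply]

set_option backward.defeqAttrib.useBackward true in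
set_option backward.isDefEq.respectTransparency false in
instance : (D.functor ⋙ Scheme.forget).IsLocallyDirected where
  cond {k l m} fk fl xk xl hx := by
    simp only [Functor.comp_obj, Scheme.forget_obj, Functor.comp_map, Scheme.forget_map,
      ConcreteCategory.hom_ofHom, TypeCat.Fun.coe_mk] at hx
    obtain ⟨zk, rfl⟩ := D.i_surjective k xk
    obtain ⟨zl, rfl⟩ := D.i_surjective l xl
    have hx' : D.ρ fk (D.i k zk) = D.ρ fl (D.i l zl) := hx
    rw [ρ_i_apply, ρ_i_apply] at hx'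
    obtain ⟨n, fnk, fnl, z, rfl, rfl⟩ :=
      𝒰.exists_of_trans_eq_trans fk fl zk zl (D.i_injective m hx')
    exact ⟨n, fnk, fnl, D.i n z, D.ρ_i_apply fnk z, D.ρ_i_apply fnl z⟩

variable [Quiver.IsThin 𝒰.I₀] [Small.{u} 𝒰.I₀]

/-- The glued thickening. -/
noncomputable def glued : Scheme.{u} := colimit D.functor

/-- The inclusions of the local thickenings. -/
noncomputable def ι (k : 𝒰.I₀) : D.Y k ⟶ D.glued := colimit.ι D.functor k

instance (k : 𝒰.I₀) : IsOpenImmersion (D.ι k) :=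
  inferInstanceAs <| IsOpenImmersion (colimit.ι D.functor k)

lemma ρ_ι {k l : 𝒰.I₀} (f : k ⟶ l) : D.ρ f ≫ D.ι l = D.ι k := colimit.w D.functor f

lemma gi_compat {k l : 𝒰.I₀} (f : k ⟶ l) : 𝒰.trans f ≫ D.i l ≫ D.ι l = D.i k ≫ D.ι k := by
  rw [← Category.assoc, ← i_ρ, Category.assoc, ρ_ι]

/-- The glued closed immersion. -/
noncomputable def gi : Z ⟶ D.glued :=
  𝒰.glueMorphismsOfLocallyDirected (fun k => D.i k ≫ D.ι k) (fun f => D.gi_compat f)

lemma f_gi (k : 𝒰.I₀) : 𝒰.f k ≫ D.gi = D.i k ≫ D.ι k :=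
  𝒰.map_glueMorphismsOfLocallyDirected (fun k => D.i k ≫ D.ι k) (fun f => D.gi_compat f) k

/-- The glued structure morphism. -/
noncomputable def cocone : Cocone D.functor where
  pt := X
  ι :=
    { app := D.h'
      naturality := fun k l f => by
        simp only [Functor.const_obj_obj, Functor.const_obj_map, Category.comp_id]
        exact D.ρ_h' f }

/-- The glued structure morphism. -/
noncomputable def gh' : D.glued ⟶ X := colimit.desc D.functor D.cocone

lemma ι_gh' (k : 𝒰.I₀) : D.ι k ≫ D.gh' = D.h' k := colimit.ι_desc _ _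

lemma gi_gh' : D.gi ≫ D.gh' = h := by
  apply 𝒰.hom_ext
  intro k
  rw [← Category.assoc, f_gi, Category.assoc, ι_gh', (D.univ k).2.1]

/-- The open cover of the glued thickening by the local ones. -/
@[reducible]
noncomputable def cover : D.glued.OpenCover where
  I₀ := 𝒰.I₀
  X := D.Y
  f := D.ι
  mem₀ := by
    rw [Scheme.presieve₀_mem_precoverage_iff]
    refine ⟨fun x => ?_, fun k => inferInstance⟩
    obtain ⟨k, y, hy⟩ := Scheme.IsLocallyDirected.ι_jointly_surjective D.functor x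
    exact ⟨k, y, hy⟩

lemma gi_f_apply (k : 𝒰.I₀) (z : 𝒰.X k) : D.gi (𝒰.f k z) = D.ι k (D.i k z) := by
  rw [← Scheme.Hom.comp_apply, f_gi, Scheme.Hom.comp_apply]

lemma isPullback (k : 𝒰.I₀) : IsPullback (D.i k) (𝒰.f k) (D.ι k) D.gi := by
  apply IsOpenImmersion.isPullback
  · exact D.f_gi k
  · ext z
    constructor
    · rintro ⟨y, hy⟩
      obtain ⟨zk, rfl⟩ := D.i_surjective k y
      obtain ⟨zl, hzl⟩ := 𝒰.covers z
      rw [← hzl, gi_f_apply] at hy
      obtain ⟨n, fk, fl, x, hxk, hxl⟩ :=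
        (Scheme.IsLocallyDirected.ι_eq_ι_iff D.functor).mp hy
      obtain ⟨zn, rfl⟩ := D.i_surjective n x
      have h1 : D.ρ fl (D.i n zn) = D.i _ zl := hxl
      rw [ρ_i_apply] at h1
      have h2 := D.i_injective _ h1
      refine ⟨𝒰.trans fk zn, ?_⟩
      rw [← hzl, ← h2, ← Scheme.Hom.comp_apply, ← Scheme.Hom.comp_apply, 𝒰.trans_map,
        𝒰.trans_map]
    · rintro ⟨zk, rfl⟩
      exact ⟨D.i k zk, (D.gi_f_apply k zk).symm⟩

lemma isFirstOrderThickening_gi : MoreMor.IsFirstOrderThickening D.gi :=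
  isFirstOrderThickening_of_openCover D.gi D.cover 𝒰.X D.i 𝒰.f D.isPullback
    fun k => (D.univ k).1

end LocalData

end Groth.Agent.Lib.Helper7.UnivThick
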