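import Groth.Agent.Lib.Helper7.FormallyEtaleLift

/-!
# Gluing unique local lifts over a basis of affine opens

General lemma: a lifting problem `t ≫ L = c`, `L ≫ q = b` for `t : T ⟶ T'` an affine morphism
has a unique solution as soon as it has a unique solution after restricting to `Spec Γ(T', W)` for
every `W` in a basis of affine opens of `T'`.
-/

set_option autoImplicit false

namespace Groth.Agent.Lib.Helper7.UnivThick

open AlgebraicGeometry CategoryTheory Limits TopologicalSpace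
open Groth.Agent.Lib.Helper7

universe u

variable {P X T T' : Scheme.{u}}

lemma SpecMap_app_fromSpec (t : T ⟶ T') [IsAffineHom t] {W : T'.Opens} (hW : IsAffineOpen W) :
    Spec.map (t.app W) ≫ hW.fromSpec = (hW.preimage t).fromSpec ≫ t := by
  have := IsAffineOpen.SpecMap_appLE_fromSpec t hW (hW.preimage t) le_rfl
  rwa [← Scheme.Hom.app_eq_appLE] at this

set_option backward.isDefEq.respectTransparency.types false in
set_option backward.defeqAttrib.useBackward true in
/-- Glue unique local lifts over a basis of affine opens. -/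
theorem existsUnique_lift_of_basis (q : P ⟶ X) (t : T ⟶ T') [IsAffineHom t]
    (c : T ⟶ P) (b : T' ⟶ X)
    (S : Set T'.Opens) (hS : ∀ W ∈ S, IsAffineOpen W) (hB : Opens.IsBasis S)
    (loc : ∀ (W : T'.Opens) (hW : W ∈ S), ∃! l : Spec Γ(T', W) ⟶ P,
      Spec.map (t.app W) ≫ l = ((hS W hW).preimage t).fromSpec ≫ c ∧
        l ≫ q = (hS W hW).fromSpec ≫ b) :
    ∃! L : T' ⟶ P, t ≫ L = c ∧ L ≫ q = b := by
  let 𝒰 := basisCover S hS hB
  have loc' : ∀ W : 𝒰.I₀, ∃! l : Spec Γ(T', W.1) ⟶ P,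
      Spec.map (t.app W.1) ≫ l = ((hS W.1 W.2).preimage t).fromSpec ≫ c ∧
        l ≫ q = (hS W.1 W.2).fromSpec ≫ b := fun W => loc W.1 W.2
  choose g hg hgu using loc'
  have compat : ∀ {i j : 𝒰.I₀} (hij : i ⟶ j), 𝒰.trans hij ≫ g j = g i := by
    intro i j hij
    apply hgu i
    constructor
    · have hle : i.1 ≤ j.1 := leOfHom hij
      rw [basisCover_trans, ← Spec.map_comp_assoc, Scheme.Hom.naturality, Spec.map_comp_assoc,
        (hg j).1, ← Category.assoc]
      congr 1
      exact IsAffineOpen.map_fromSpec ((hS j.1 j.2).preimage t) ((hS i.1 i.2).preimage t) _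
    · rw [Category.assoc, (hg j).2, ← Category.assoc]
      congr 1
      exact 𝒰.trans_map hij
  let L := 𝒰.glueMorphismsOfLocallyDirected g compat
  have hL : ∀ W, 𝒰.f W ≫ L = g W := 𝒰.map_glueMorphismsOfLocallyDirected g compat
  have hL2 : L ≫ q = b := by
    apply 𝒰.hom_ext
    intro W
    rw [← Category.assoc, hL, (hg W).2]
  have key : ∀ (l : T' ⟶ P) (W : 𝒰.I₀),
      Spec.map (t.app W.1) ≫ (hS W.1 W.2).fromSpec ≫ l =
        ((hS W.1 W.2).preimage t).fromSpec ≫ t ≫ l := by
    intro l W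
    rw [← Category.assoc, SpecMap_app_fromSpec t (hS W.1 W.2), Category.assoc]
  have hL1 : t ≫ L = c := by
    apply Scheme.hom_ext_of_forall
    intro x
    obtain ⟨W, hW, hxW, -⟩ := Opens.isBasis_iff_nbhd.mp hB (Opens.mem_top (t x))
    refine ⟨t ⁻¹ᵁ W, hxW, ?_⟩
    have h1 := key L ⟨W, hW⟩
    have h2 : (hS W hW).fromSpec ≫ L = g ⟨W, hW⟩ := hL ⟨W, hW⟩
    rw [h2, (hg ⟨W, hW⟩).1] at h1
    rw [← ((hS W hW).preimage t).isoSpec_hom_fromSpec, Category.assoc, Category.assoc, ← h1]
  refine ⟨L, ⟨hL1, hL2⟩, ?_⟩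
  rintro L' ⟨hL'1, hL'2⟩
  apply 𝒰.hom_ext
  intro W
  rw [hL]
  apply hgu W
  constructor
  · have := key L' W
    rw [hL'1] at this
    exact this
  · rw [Category.assoc, hL'2]

end Groth.Agent.Lib.Helper7.UnivThick
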