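import Groth.Agent.Lib.Helper7.UnivThick.Glue

/-!
# The glued thickening is universal
-/

set_option autoImplicit false

namespace Groth.Agent.Lib.Helper7.UnivThick

open AlgebraicGeometry CategoryTheory Limits TopologicalSpace
open Groth.Agent.Lib.Helper7

universe w u

variable {Z X : Scheme.{u}} {h : Z ⟶ X} {𝒰 : Scheme.OpenCover.{u} Z} [Category.{w} 𝒰.I₀]
  [𝒰.LocallyDirected]

namespace LocalData

variable (D : LocalData h 𝒰)

section Test

variable {T T' : Scheme.{u}} (j : T ⟶ T') (a : T ⟶ Z)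

/-- The affine opens of `T'` over which `a` factors through a member of the cover. -/
def testOpens : Set T'.Opens :=
  {W | IsAffineOpen W ∧ ∃ k : 𝒰.I₀, j ⁻¹ᵁ W ≤ a ⁻¹ᵁ (𝒰.f k).opensRange}

lemma testOpens_isAffineOpen : ∀ W ∈ testOpens (𝒰 := 𝒰) j a, IsAffineOpen W := fun _ h => h.1

lemma testOpens_isBasis [IsClosedImmersion j] [Surjective j] :
    Opens.IsBasis (testOpens (𝒰 := 𝒰) j a) := by
  rw [Opens.isBasis_iff_nbhd]
  intro O x' hx'
  obtain ⟨x, rfl⟩ := j.surjective x'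
  obtain ⟨y, hy⟩ := 𝒰.covers (a x)
  have hhomeo : IsHomeomorph j :=
    isHomeomorph_iff_isEmbedding_surjective.mpr ⟨j.isClosedEmbedding.isEmbedding, j.surjective⟩
  let O₁ : T'.Opens := ⟨j '' (a ⁻¹ᵁ (𝒰.f (𝒰.idx (a x))).opensRange : Set T),
    hhomeo.isOpenMap _ (a ⁻¹ᵁ (𝒰.f (𝒰.idx (a x))).opensRange).isOpen⟩
  have hxO₁ : j x ∈ O₁ := ⟨x, ⟨y, hy⟩, rfl⟩
  obtain ⟨W, hW, hxW, hWO⟩ := Opens.isBasis_iff_nbhd.mp T'.isBasis_affineOpens
    (show j x ∈ O ⊓ O₁ from ⟨hx', hxO₁⟩)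
  refine ⟨W, ⟨hW, 𝒰.idx (a x), ?_⟩, hxW, fun y hy => (hWO hy).1⟩
  intro y hy
  obtain ⟨z, hz, hzy⟩ := (hWO hy).2
  rw [← hhomeo.injective hzy]
  exact hz

end Test

variable [Quiver.IsThin 𝒰.I₀] [Small.{u} 𝒰.I₀]

theorem isUnivThickening : OmegaSh.IsUnivThickening h D.gi D.gh' := by
  refine ⟨D.isFirstOrderThickening_gi, D.gi_gh', ?_⟩
  intro T T' j b a hj w
  have hjc : IsClosedImmersion j := hj.1.1
  have hjs : Surjective j := hj.1.2
  have hsq : j.ker * j.ker = ⊥ := hj.2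
  refine existsUnique_lift_of_basis D.gh' j (a ≫ D.gi) b (testOpens (𝒰 := 𝒰) j a)
    (testOpens_isAffineOpen j a) (testOpens_isBasis j a) ?_
  rintro W ⟨hW, k, hk⟩
  have hθsurj : Function.Surjective (j.app W).hom := Scheme.Hom.app_surjective j W hW
  have hθker := ker_app_sq_eq_bot j hsq hW
  have hSsurj : Function.Surjective (Spec.map (j.app W)) :=
    SpecMap_surjective_of_ker_le_nilradical _ hθsurj (ker_le_nilradical_of_sq_eq_bot _ hθker)
  have hthick : MoreMor.IsFirstOrderThickening (Spec.map (j.app W)) :=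
    Groth.Agent.Lib.Helper51.isFirstOrderThickening_SpecMap _ hθsurj hθker
  have Et := SpecMap_app_fromSpec j hW
  have hr : Set.range ((hW.preimage j).fromSpec ≫ a) ⊆ Set.range (𝒰.f k) := by
    rintro _ ⟨p, rfl⟩
    rw [Scheme.Hom.comp_apply]
    have hp : (hW.preimage j).fromSpec p ∈ j ⁻¹ᵁ W := by
      have : (hW.preimage j).fromSpec p ∈ Set.range (hW.preimage j).fromSpec := ⟨p, rfl⟩
      rwa [(hW.preimage j).range_fromSpec] at this
    exact hk hp
  set ã := IsOpenImmersion.lift (𝒰.f k) ((hW.preimage j).fromSpec ≫ a) hr with hã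
  have hãf : ã ≫ 𝒰.f k = (hW.preimage j).fromSpec ≫ a := IsOpenImmersion.lift_fac _ _ _
  have comm : Spec.map (j.app W) ≫ hW.fromSpec ≫ b = ã ≫ 𝒰.f k ≫ h := by
    rw [← Category.assoc, Et, Category.assoc, w, ← Category.assoc, ← hãf, Category.assoc]
  obtain ⟨l₀, ⟨hl1, hl2⟩, hl₀u⟩ := (D.univ k).2.2 _ _ (Spec.map (j.app W)) (hW.fromSpec ≫ b) ã
    hthick comm
  refine ⟨l₀ ≫ D.ι k, ⟨?_, ?_⟩, ?_⟩
  · rw [← Category.assoc, hl1, Category.assoc, ← f_gi, ← Category.assoc, hãf, Category.assoc]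
  · rw [Category.assoc, ι_gh', hl2]
  · rintro l' ⟨h1, h2⟩
    have hr' : Set.range l' ⊆ Set.range (D.ι k) := by
      rintro _ ⟨p, rfl⟩
      obtain ⟨q, rfl⟩ := hSsurj p
      refine ⟨D.i k (ã q), ?_⟩
      have e : Spec.map (j.app W) ≫ l' = ã ≫ D.i k ≫ D.ι k := by
        rw [h1, ← Category.assoc, ← hãf, Category.assoc, f_gi]
      have := congr($(e) q)
      simp only [Scheme.Hom.comp_apply] at this
      exact this.symm
    have hfac : IsOpenImmersion.lift (D.ι k) l' hr' ≫ D.ι k = l' := IsOpenImmersion.lift_fac _ _ _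
    rw [← hfac]
    congr 1
    apply hl₀u
    constructor
    · rw [← cancel_mono (D.ι k), Category.assoc, hfac, h1, ← Category.assoc, ← hãf,
        Category.assoc, Category.assoc, f_gi]
    · rw [← ι_gh', ← Category.assoc, hfac, h2]

end LocalData

/-- Local existence of universal first order thickenings implies global existence. -/
theorem exists_isUnivThickening_of_cover {Z X : Scheme.{u}} (h : Z ⟶ X)
    (𝒰 : Scheme.OpenCover.{u} Z) [Category.{w} 𝒰.I₀] [𝒰.LocallyDirected] [Quiver.IsThin 𝒰.I₀]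
    [Small.{u} 𝒰.I₀]
    (loc : ∀ k, ∃ (Y : Scheme.{u}) (i : 𝒰.X k ⟶ Y) (h' : Y ⟶ X),
      OmegaSh.IsUnivThickening (𝒰.f k ≫ h) i h') :
    ∃ (Z' : Scheme.{u}) (i : Z ⟶ Z') (h' : Z' ⟶ X), OmegaSh.IsUnivThickening h i h' := by
  choose Y i h' hu using loc
  let D : LocalData h 𝒰 := ⟨Y, i, h', hu⟩
  exact ⟨D.glued, D.gi, D.gh', D.isUnivThickening⟩

end Groth.Agent.Lib.Helper7.UnivThick
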