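import Groth.Agent.Lib.Helper7.UnivThick.LocalTarget
import Groth.Agent.Lib.Helper7.FormallyEtaleLift
import Groth.Prelude.Def_Omega3

/-!
# The first order infinitesimal neighbourhood is a universal first order thickening
-/

set_option autoImplicit false

namespace Groth.Agent.Lib.Helper7.UnivThick

open AlgebraicGeometry CategoryTheory Limits TopologicalSpace
open Groth.Agent.Lib.Helper7

universe u

/-- For a closed immersion with square-zero kernel, products of sections (over any open) that
restrict to zero vanish. -/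
lemma mul_eq_zero_of_app_eq_zero {T T' : Scheme.{u}} (j : T ⟶ T') [IsClosedImmersion j]
    (hsq : j.ker * j.ker = ⊥) (O : T'.Opens) (x y : Γ(T', O))
    (hx : (j.app O).hom x = 0) (hy : (j.app O).hom y = 0) : x * y = 0 := by
  refine TopCat.Sheaf.eq_of_locally_eq' T'.sheaf
    (fun p : {W : T'.Opens // IsAffineOpen W ∧ W ≤ O} => p.1) O
    (fun p => homOfLE p.2.2) ?_ _ _ fun p => ?_
  · intro z hz
    obtain ⟨W, hW, hzW, hWO⟩ := Opens.isBasis_iff_nbhd.mp T'.isBasis_affineOpens hz
    exact Opens.mem_iSup.mpr ⟨⟨W, hW, hWO⟩, hzW⟩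
  · obtain ⟨W, hW, hWO⟩ := p
    change (T'.presheaf.map (homOfLE hWO).op).hom (x * y) =
      (T'.presheaf.map (homOfLE hWO).op).hom 0
    rw [map_zero, map_mul]
    have hker := ker_app_sq_eq_bot j hsq hW
    have key : ∀ z : Γ(T', O), (j.app O).hom z = 0 →
        (T'.presheaf.map (homOfLE hWO).op).hom z ∈ RingHom.ker (j.app W).hom := by
      intro z hz
      rw [RingHom.mem_ker]
      have := congr($(j.naturality (homOfLE hWO).op).hom z)
      simp only [CommRingCat.hom_comp, RingHom.comp_apply] at this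
      rw [this, hz, map_zero]
    have : (T'.presheaf.map (homOfLE hWO).op).hom x * (T'.presheaf.map (homOfLE hWO).op).hom y ∈
        RingHom.ker (j.app W).hom ^ 2 := by
      rw [pow_two]
      exact Ideal.mul_mem_mul (key x hx) (key y hy)
    rw [hker] at this
    exact this

/-- If `I` is contained in the kernel of `j ≫ b` with `j` a first order thickening, then `I ^ 2` is
contained in the kernel of `b`. -/
lemma sq_le_ker_of_le_ker_comp {T T' U : Scheme.{u}} (j : T ⟶ T') [IsClosedImmersion j]
    (hsq : j.ker * j.ker = ⊥) (b : T' ⟶ U) (I : U.IdealSheafData) (hI : I ≤ (j ≫ b).ker) :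
    I ^ 2 ≤ b.ker := by
  rw [Scheme.Hom.ker, Scheme.IdealSheafData.le_ofIdeals_iff]
  intro W
  rw [Scheme.IdealSheafData.ideal_pow, Pi.pow_apply, pow_two, Ideal.mul_le]
  intro x hx y hy
  rw [RingHom.mem_ker, map_mul]
  have key : ∀ z ∈ I.ideal W, (j.app (b ⁻¹ᵁ W)).hom ((b.app W).hom z) = 0 := by
    intro z hz
    have h1 := (j ≫ b).ideal_ker_le W (hI W hz)
    rw [RingHom.mem_ker] at h1
    have h2 := congr($(Scheme.Hom.comp_app j b W).hom z)
    simp only [CommRingCat.hom_comp, RingHom.comp_apply] at h2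
    rw [← h2]
    exact h1
  exact mul_eq_zero_of_app_eq_zero j hsq _ _ _ (key x hx) (key y hy)

lemma ker_factor_sq_eq_bot {R : Type u} [CommRing R] (I J : Ideal R) (h : J ≤ I)
    (hIJ : I ^ 2 ≤ J) : RingHom.ker (Ideal.Quotient.factor h) ^ 2 = ⊥ := by
  rw [eq_bot_iff, pow_two, Ideal.mul_le]
  intro a ha b hb
  obtain ⟨a', rfl⟩ := Ideal.Quotient.mk_surjective a
  obtain ⟨b', rfl⟩ := Ideal.Quotient.mk_surjective b
  rw [RingHom.mem_ker, Ideal.Quotient.factor_mk, Ideal.Quotient.eq_zero_iff_mem] at ha hb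
  rw [Ideal.mem_bot, ← map_mul, Ideal.Quotient.eq_zero_iff_mem]
  apply hIJ
  rw [pow_two]
  exact Ideal.mul_mem_mul ha hb

lemma isPullback_glueDataObjHom_inclusion {U : Scheme.{u}} (I : U.IdealSheafData)
    (h : I ^ 2 ≤ I) (W : U.affineOpens) :
    IsPullback (X := Spec ((I ^ 2).subschemeCover.X W)) (P := Spec (I.subschemeCover.X W))
      (Scheme.IdealSheafData.glueDataObjHom h W) (I.subschemeCover.f W)
      ((I ^ 2).subschemeCover.f W) (Scheme.IdealSheafData.inclusion h) := by
  have i1 : IsOpenImmersion (I.subschemeCover.f W) := I.subschemeCover.map_prop W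
  have i2 : IsOpenImmersion ((I ^ 2).subschemeCover.f W) := (I ^ 2).subschemeCover.map_prop W
  refine @IsOpenImmersion.isPullback _ _ _ _ _ _ _ _ i1 i2 ?_ ?_
  · exact Scheme.IdealSheafData.subSchemeCover_map_inclusion h W
  · rw [Scheme.IdealSheafData.opensRange_subschemeCover_map,
      Scheme.IdealSheafData.opensRange_subschemeCover_map, ← Scheme.Hom.comp_preimage,
      Scheme.IdealSheafData.inclusion_subschemeι]

lemma isFirstOrderThickening_glueDataObjHom {U : Scheme.{u}} (I : U.IdealSheafData)
    (h : I ^ 2 ≤ I) (W : U.affineOpens) :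
    MoreMor.IsFirstOrderThickening (X := Spec (I.subschemeCover.X W))
      (X' := Spec ((I ^ 2).subschemeCover.X W)) (Scheme.IdealSheafData.glueDataObjHom h W) :=
  Groth.Agent.Lib.Helper51.isFirstOrderThickening_SpecMap
    (CommRingCat.ofHom (Ideal.Quotient.factor (h W)))
    (Ideal.Quotient.factor_surjective (h W))
    (ker_factor_sq_eq_bot (I.ideal W) ((I ^ 2).ideal W) (h W) le_rfl)

/-- The inclusion `V(I) ⟶ V(I ^ 2)` is a first order thickening. -/
lemma isFirstOrderThickening_inclusion {U : Scheme.{u}} (I : U.IdealSheafData) (h : I ^ 2 ≤ I) :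
    MoreMor.IsFirstOrderThickening (Scheme.IdealSheafData.inclusion h) :=
  isFirstOrderThickening_of_openCover (Scheme.IdealSheafData.inclusion h)
    (I ^ 2).subschemeCover.openCover (fun W => Spec (I.subschemeCover.X W))
    (fun W => Scheme.IdealSheafData.glueDataObjHom h W)
    (fun W => I.subschemeCover.f W) (fun W => isPullback_glueDataObjHom_inclusion I h W)
    (fun W => isFirstOrderThickening_glueDataObjHom I h W)

/-- The first order infinitesimal neighbourhood of an immersion is a universal first order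
thickening. -/
theorem isUnivThickening_infNbhd {X : Scheme.{u}} (U : X.Opens)
    (I : (U : Scheme.{u}).IdealSheafData) (h : I ^ 2 ≤ I) :
    OmegaSh.IsUnivThickening (I.subschemeι ≫ U.ι) (Scheme.IdealSheafData.inclusion h)
      ((I ^ 2).subschemeι ≫ U.ι) := by
  refine ⟨isFirstOrderThickening_inclusion I h, ?_, ?_⟩
  · rw [← Category.assoc, Scheme.IdealSheafData.inclusion_subschemeι]
  · intro T T' j b a hj w
    have hjc : IsClosedImmersion j := hj.1.1
    have hjs : Surjective j := hj.1.2
    have hsq : j.ker * j.ker = ⊥ := hj.2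
    have hr : Set.range b ⊆ Set.range U.ι := by
      rintro _ ⟨t', rfl⟩
      obtain ⟨t, rfl⟩ := j.surjective t'
      rw [← Scheme.Hom.comp_apply, w, ← Category.assoc, Scheme.Hom.comp_apply]
      exact ⟨_, rfl⟩
    set b' := IsOpenImmersion.lift U.ι b hr with hb'
    have hb'ι : b' ≫ U.ι = b := IsOpenImmersion.lift_fac _ _ _
    have w' : j ≫ b' = a ≫ I.subschemeι := by
      rw [← cancel_mono U.ι, Category.assoc, hb'ι, w, Category.assoc]
    have hI : I ≤ (j ≫ b').ker := by
      rw [w']
      conv_lhs => rw [← I.ker_subschemeι]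
      exact Scheme.Hom.le_ker_comp a I.subschemeι
    have hI2 : (I ^ 2).subschemeι.ker ≤ b'.ker := by
      rw [Scheme.IdealSheafData.ker_subschemeι]
      exact sq_le_ker_of_le_ker_comp j hsq b' I hI
    refine ⟨IsClosedImmersion.lift (I ^ 2).subschemeι b' hI2, ⟨?_, ?_⟩, ?_⟩
    · rw [← cancel_mono (I ^ 2).subschemeι, Category.assoc, IsClosedImmersion.lift_fac,
        Category.assoc, Scheme.IdealSheafData.inclusion_subschemeι, w']
    · rw [← Category.assoc, IsClosedImmersion.lift_fac, hb'ι]
    · rintro a'' ⟨h1, h2⟩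
      rw [← cancel_mono (I ^ 2).subschemeι, IsClosedImmersion.lift_fac, ← cancel_mono U.ι,
        Category.assoc, h2, hb'ι]

end Groth.Agent.Lib.Helper7.UnivThick
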