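import Groth.Agent.Lib.Helper7.UnivThick.Affine
import Groth.Agent.Lib.Helper7.UnivThick.GlueUniv
import Groth.Agent.S9426
import Mathlib.AlgebraicGeometry.Morphisms.FormallyUnramified

/-!
# Existence of universal first order thickenings of formally unramified morphisms
-/

set_option autoImplicit false

namespace Groth.Agent.Lib.Helper7.UnivThick

open AlgebraicGeometry CategoryTheory Limits TopologicalSpace
open Groth.Agent.Lib.Helper7

universe u

theorem exists_ringUniv {R B : CommRingCat.{u}} (φ : R ⟶ B) (hφ : φ.hom.FormallyUnramified) :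
    ∃ (B' : CommRingCat.{u}) (φ' : R ⟶ B') (π : B' ⟶ B), φ' ≫ π = φ ∧
      Function.Surjective π.hom ∧ RingHom.ker π.hom ^ 2 = ⊥ ∧ RingUniv φ φ' π := by
  letI : Algebra R B := φ.hom.toAlgebra
  have : Algebra.FormallyUnramified R B := hφ
  obtain ⟨S', _, _, π, hπ⟩ := Groth.Agent.S9426.result R B
  have hφ' : CommRingCat.ofHom (algebraMap R B) = φ := by
    ext r
    rfl
  refine ⟨CommRingCat.of S', CommRingCat.ofHom (algebraMap R S'), CommRingCat.ofHom π.toRingHom,
    ?_, hπ.1, hπ.2.1, ?_⟩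
  · ext r
    exact π.commutes r
  · have := ringUniv_of_isUnivThickeningRing R B S' π hπ
    rwa [hφ'] at this

/-- The "small" affine opens of `Z`: those mapping into an affine open of `X`. -/
def smallOpens {Z X : Scheme.{u}} (h : Z ⟶ X) : Set Z.Opens :=
  {W | IsAffineOpen W ∧ ∃ U : X.Opens, IsAffineOpen U ∧ W ≤ h ⁻¹ᵁ U}

lemma smallOpens_isAffineOpen {Z X : Scheme.{u}} (h : Z ⟶ X) :
    ∀ W ∈ smallOpens h, IsAffineOpen W := fun _ hW => hW.1

lemma smallOpens_isBasis {Z X : Scheme.{u}} (h : Z ⟶ X) : Opens.IsBasis (smallOpens h) := by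
  rw [Opens.isBasis_iff_nbhd]
  intro O z hz
  obtain ⟨U, hU, hzU, -⟩ := Opens.isBasis_iff_nbhd.mp X.isBasis_affineOpens
    (Opens.mem_top (h z))
  obtain ⟨W, hW, hzW, hWO⟩ := Opens.isBasis_iff_nbhd.mp Z.isBasis_affineOpens
    (show z ∈ O ⊓ h ⁻¹ᵁ U from ⟨hz, hzU⟩)
  exact ⟨W, ⟨hW, U, hU, fun y hy => (hWO hy).2⟩, hzW, fun y hy => (hWO hy).1⟩

theorem exists_isUnivThickening_of_small {Z X : Scheme.{u}} (h : Z ⟶ X) [FormallyUnramified h]
    (W : Z.Opens) (hW : W ∈ smallOpens h) :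
    ∃ (Y : Scheme.{u}) (i : Spec Γ(Z, W) ⟶ Y) (h' : Y ⟶ X),
      OmegaSh.IsUnivThickening (hW.1.fromSpec ≫ h) i h' := by
  obtain ⟨hWa, U, hU, hWU⟩ := hW
  have hφ : (h.appLE U W hWU).hom.FormallyUnramified :=
    HasRingHomProperty.appLE @FormallyUnramified h inferInstance ⟨U, hU⟩ ⟨W, hWa⟩ hWU
  obtain ⟨B', φ', π, hπ, hsurj, hker, huniv⟩ := exists_ringUniv (h.appLE U W hWU) hφ
  refine ⟨Spec B', Spec.map π, Spec.map φ' ≫ hU.fromSpec, ?_⟩
  have := isUnivThickening_Spec hU (h.appLE U W hWU) φ' π hπ hsurj hker huniv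
  rwa [IsAffineOpen.SpecMap_appLE_fromSpec h hU hWa hWU] at this

theorem exists_isUnivThickening {Z X : Scheme.{u}} (h : Z ⟶ X) [FormallyUnramified h] :
    ∃ (Z' : Scheme.{u}) (i : Z ⟶ Z') (h' : Z' ⟶ X), OmegaSh.IsUnivThickening h i h' := by
  refine exists_isUnivThickening_of_cover h
    (basisCover (smallOpens h) (smallOpens_isAffineOpen h) (smallOpens_isBasis h)) ?_
  intro k
  exact exists_isUnivThickening_of_small h k.1 k.2

end Groth.Agent.Lib.Helper7.UnivThick
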